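import Cfsg.Agent.H987.BR.SpAut
import Cfsg.Agent.H987.BR.OmAut
import Cfsg.Agent.H895.BR.SpModel
import Cfsg.Agent.H410.BR.OmDefs

/-!
# The field `aut` of `H31.BR.PolInst` for the symplectic and orthogonal groups (helper987, S4891)
-/

set_option autoImplicit false

open Cfsg Module Cfsg.Agent.H2.Pol Cfsg.Agent.H674.BR QuadraticMap

namespace Cfsg.Agent.H987.BR

open Cfsg.Agent.LieClassical Cfsg.Agent.LieClassical.OrthCore Cfsg.Agent.LieClassical.OrthTrans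
  Cfsg.Agent.LieClassical.OrthFinite Cfsg.Agent.ClassicalGeometry.OrthSemi Cfsg.Agent.ClassicalGeometry.OrthSemiForms

/-- `aut` for `PSp m F` -/
theorem aut_sp {F : Type*} [Field F] [Finite F] {m : ℕ} (hm : 2 ≤ m) (h22 : m = 2 → 3 ≤ Nat.card F) {p : ℕ} (hp : p.Prime)
    (hp2 : p ≠ 2) (a : MulAut (PSp m F)) (ha : ∃ k, orderOf a = p ^ k) :
    ∃ M : (Fin m ⊕ Fin m → F) ≃+ (Fin m ⊕ Fin m → F), SemiAct (Cfsg.Agent.H895.BR.spPol m F) M ∧
      Induces (Cfsg.Agent.H895.BR.spRho m F) (QuotientGroup.mk' (Subgroup.center (Matrix.symplecticGroup (Fin m) F))) M a := by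
  obtain ⟨k, hk⟩ := ha
  exact sp_aut hm h22 _ (fun _ _ => rfl) (fun _ => trivial) _ (fun _ _ => rfl) hp hp2 a hk

/-- `aut` for `POmega F Q`, all automorphisms which come from semisimilarities -/
theorem aut_om {F : Type*} [Field F] {ι : Type} [Fintype ι] [DecidableEq ι] {Q : QuadraticForm F (ι → F)} (hG : Good Q)
    {a : MulAut (Cfsg.POmega F ⇑Q)} (ha : GamAct hG a) :
    ∃ M : (ι → F) ≃+ (ι → F), SemiAct (Cfsg.Agent.H410.BR.quadPol Q) M ∧
      Induces (Cfsg.Agent.H410.BR.omRho Q) (QuotientGroup.mk' (Subgroup.center (Cfsg.Omega F ⇑Q))) M a :=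
  om_aut hG _ (fun _ _ => rfl) (fun _ => Iff.rfl) _ (fun _ _ => rfl) ha

end Cfsg.Agent.H987.BR
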