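import Cfsg.Agent.H987.BR.AutInst
import Cfsg.Agent.H208.Parity

/-!
# Automorphisms of odd order of `POmega` (plus type) preserve the two families (helper987, S4891)

`Q` good on a space of dimension `2 m` with a totally singular subspace of dimension `m`; `a : MulAut (POmega F Q)`
induced by a semisimilarity, of odd order.

* `ev_of_odd` : `Psi Q M ^ n = 1`, `n` odd: `M` preserves each of the two families;
* `fam` : `∃ M hM, Induces … ∧ ∀ U, Even (m + finrank (U ⊓ hM.sub U))`;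
* `fam_perm` : the same as a permutation of `X m`, equivariant with respect to `a`;
* `fam_permC` : the permutation character on every union of families is invariant under `a`.
-/

set_option autoImplicit false

open Cfsg Module Cfsg.Agent.H2.Pol Cfsg.Agent.H674.BR Cfsg.Agent.H145.BR QuadraticMap

namespace Cfsg.Agent.H987.BR

open Cfsg.Agent.LieClassical Cfsg.Agent.LieClassical.OrthCore Cfsg.Agent.LieClassical.OrthTrans
  Cfsg.Agent.LieClassical.OrthFinite Cfsg.Agent.ClassicalGeometry.OrthSemi Cfsg.Agent.ClassicalGeometry.OrthSemiForms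
  Cfsg.Agent.H208.Parity Cfsg.Agent.H410.BR

variable {F : Type*} [Field F] {ι : Type} [Fintype ι] [DecidableEq ι] {Q : QuadraticForm F (ι → F)}

omit [DecidableEq ι] in
/-- semisimilarities of odd order modulo scalars preserve the two families -/
theorem ev_of_odd (hG : Good Q) {m : ℕ} (hV : finrank F (ι → F) = 2 * m) (hT : ∃ U, TSm Q m U) {M : Gam Q} {n : ℕ}
    (hn : Odd n) (h : Psi Q M ^ n = 1) : Ev m M := by
  have h1 : M ^ n ∈ (Psi Q).ker := by
    rw [MonoidHom.mem_ker, map_pow, h]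
  rw [ker_Psi hG] at h1
  obtain ⟨c, hc⟩ := h1
  have h2 : Ev m (M ^ n) := by
    rw [← hc]
    exact ev_scal c
  have h3 : ∀ k : ℕ, Ev m (M ^ (2 * k)) := by
    intro k
    induction k with
    | zero =>
      rw [mul_zero, pow_zero]
      exact ev_one
    | succ k ih =>
      have e : M ^ (2 * (k + 1)) = M ^ (2 * k) * (M * M) := by
        rw [mul_add, mul_one, pow_add, pow_two]
      rw [e, ev_mul hG.nondeg hV hT, ev_mul hG.nondeg hV hT]
      exact ⟨fun _ => Iff.rfl, fun _ => ih⟩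
  obtain ⟨k, rfl⟩ := hn
  rw [pow_succ, ev_mul hG.nondeg hV hT] at h2
  exact h2.1 (h3 k)

theorem sub_eq_img (Φ : Pol F (ι → F)) {M : Gam Q} (hM : SemiAct Φ (gamEquiv M)) (U : Submodule F (ι → F)) :
    hM.sub U = img M U := by
  ext v
  obtain ⟨v, rfl⟩ := (gamEquiv M).surjective v
  rw [hM.mem_sub, gamEquiv_apply, apply_mem_img]

/-- **the semisimilarity inducing an automorphism of odd order preserves the families** -/
theorem fam (hG : Good Q) {m : ℕ} (hV : finrank F (ι → F) = 2 * m) {a : MulAut (Cfsg.POmega F ⇑Q)} (ha : GamAct hG a)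
    (hodd : Odd (orderOf a)) :
    ∃ (M : (ι → F) ≃+ (ι → F)) (hM : SemiAct (quadPol Q) M),
      Induces (omRho Q) (QuotientGroup.mk' (Subgroup.center (Cfsg.Omega F ⇑Q))) M a ∧
      ∀ U : (quadPol Q).X m, Even (m + finrank F ↥(U.1 ⊓ hM.sub U.1)) := by
  obtain ⟨M, hM⟩ := ha
  refine ⟨gamEquiv M, gam_semiAct (quadPol Q) (fun _ _ => rfl) (fun _ => Iff.rfl) M,
    gam_induces hG (omRho Q) (fun _ _ => rfl) hM, fun U => ?_⟩
  rw [sub_eq_img]
  have hT : TSm Q m U.1 := ⟨U.2.2, U.2.1.1⟩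
  refine ev_of_odd hG hV ⟨U.1, hT⟩ hodd ?_ U.1 hT
  have h1 : ∀ (n : ℕ) (x : Cfsg.POmega F ⇑Q), pomegaEquiv hG ((a ^ n) x) = (Psi Q M ^ n) (pomegaEquiv hG x) := by
    intro n
    induction n with
    | zero =>
      intro x
      rw [pow_zero, pow_zero]
      rfl
    | succ n ih =>
      intro x
      rw [pow_succ, pow_succ, MulAut.mul_apply, MulAut.mul_apply, ih, hM]
  ext y
  obtain ⟨x, rfl⟩ := (pomegaEquiv hG).surjective y
  rw [← h1, pow_orderOf_eq_one]
  rfl

/-- the same as a permutation of `X m` -/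
theorem fam_perm (hG : Good Q) {m : ℕ} (hV : finrank F (ι → F) = 2 * m) {a : MulAut (Cfsg.POmega F ⇑Q)} (ha : GamAct hG a)
    (hodd : Odd (orderOf a)) :
    letI := (om_model hG).mulAction m
    ∃ f : (quadPol Q).X m ≃ (quadPol Q).X m, (∀ (s : Cfsg.POmega F ⇑Q) (U : (quadPol Q).X m), a s • f U = f (s • U)) ∧
      ∀ U : (quadPol Q).X m, Even (m + finrank F ↥(U.1 ⊓ (f U).1)) := by
  let _ := (om_model hG).mulAction m
  obtain ⟨M, hM, hi, hf⟩ := fam hG hV ha hodd
  refine ⟨hM.perm m, fun s U => ?_, hf⟩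
  obtain ⟨g, rfl⟩ := (om_model hG).surj s
  obtain ⟨g', hg', hm⟩ := hi g
  have key : ∀ U : Submodule F (ι → F), (hM.sub U).map (omRho Q g' : (ι → F) →ₗ[F] (ι → F)) =
      hM.sub (U.map (omRho Q g : (ι → F) →ₗ[F] (ι → F))) := by
    intro U
    ext v
    constructor
    · rintro ⟨_, ⟨x, hx, rfl⟩, rfl⟩
      exact ⟨omRho Q g x, ⟨x, hx, rfl⟩, (hm x).symm⟩
    · rintro ⟨_, ⟨x, hx, rfl⟩, rfl⟩
      exact ⟨M x, ⟨x, hx, rfl⟩, hm x⟩
  rw [← hg', (om_model hG).smul_eq m g U, (om_model hG).smul_eq m g' (hM.perm m U)]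
  exact Subtype.ext (key U.1)

/-- **the permutation character on a union of families is invariant** -/
theorem fam_permC (hG : Good Q) {m : ℕ} (hV : finrank F (ι → F) = 2 * m) {a : MulAut (Cfsg.POmega F ⇑Q)} (ha : GamAct hG a)
    (hodd : Odd (orderOf a)) (c : Set ((quadPol Q).X m))
    (hc : ∀ U ∈ c, ∀ W : (quadPol Q).X m, Even (m + finrank F ↥(U.1 ⊓ W.1)) → W ∈ c)
    [MulAction (Cfsg.POmega F ⇑Q) c]
    (hact : ∀ (s : Cfsg.POmega F ⇑Q) (U : c), ((s • U : c) : (quadPol Q).X m) =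
      (letI := (om_model hG).mulAction m; s • (U : (quadPol Q).X m))) (s : Cfsg.POmega F ⇑Q) :
    permC (Cfsg.POmega F ⇑Q) c (a s) = permC (Cfsg.POmega F ⇑Q) c s := by
  let _ := (om_model hG).mulAction m
  obtain ⟨f, hf, he⟩ := fam_perm hG hV ha hodd
  have hmem : ∀ U : (quadPol Q).X m, U ∈ c ↔ f U ∈ c := by
    intro U
    refine ⟨fun h => hc U h _ (he U), fun h => hc _ h U ?_⟩
    rw [inf_comm]
    exact he U
  show (Nat.card _ : ℂ) = (Nat.card _ : ℂ)
  congr 1
  symm
  refine Nat.card_congr (Equiv.subtypeEquiv (Equiv.subtypeEquiv f hmem) fun U => ?_)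
  show s • U = U ↔ a s • (Equiv.subtypeEquiv f hmem U) = Equiv.subtypeEquiv f hmem U
  rw [← Subtype.coe_inj, ← Subtype.coe_inj, hact, hact]
  show s • (U : (quadPol Q).X m) = U ↔ a s • f U = f U
  rw [hf, f.apply_eq_iff_eq]

end Cfsg.Agent.H987.BR
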